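import Groth.Agent.TopQC.Basic
import Groth.Agent.CohTopX.Basic
import Mathlib.CategoryTheory.Limits.Types.Filtered
import Mathlib.Algebra.Category.Grp.FilteredColimits

/-!
Cohomology over quasi-compact opens commutes with directed colimits.
-/

set_option autoImplicit false
set_option linter.style.haveILetI false
set_option linter.unusedSectionVars false
set_option backward.isDefEq.respectTransparency false
set_option backward.isDefEq.respectTransparency.types false

universe u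

open CategoryTheory Category Limits Opposite TopologicalSpace Abelian
open Groth.Agent.TopPullModel Groth.Agent.TopCompact

namespace Groth.Agent.TopQC

variable {X : TopCat.{u}} {ι : Type u} [Preorder ι] [IsDirected ι (· ≤ ·)] [Nonempty ι]
  {F : ι ⥤ CohTop.Ab X} {c : Cocone F} (hc : IsColimit c)

open scoped Classical in
instance stk_preservesColimits (x : X) : PreservesColimitsOfSize.{u, u} (stk x) :=
  (stalkSkyscraperSheafAdjunction (C := AddCommGrpCat.{u}) x).leftAdjoint_preservesColimits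

theorem sub_comp' {A B C : CohTop.Ab X} {n : ℕ} (a b : Ext A B n) (g : Ext B C 0) :
    (a - b).comp g (add_zero n) = a.comp g (add_zero n) - b.comp g (add_zero n) := by
  rw [sub_eq_add_neg, Ext.add_comp, Ext.neg_comp, ← sub_eq_add_neg]

theorem comp_mk₀_mk₀ {A B C D : CohTop.Ab X} {n : ℕ} (e : Ext A B n) (a : B ⟶ C) (b : C ⟶ D) :
    (e.comp (Ext.mk₀ a) (add_zero n)).comp (Ext.mk₀ b) (add_zero n) = e.comp (Ext.mk₀ (a ≫ b)) (add_zero n) := by
  rw [Ext.comp_assoc_of_third_deg_zero, Ext.mk₀_comp_mk₀]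

theorem gm_ι (i : ι) (W : Opens X) (y : X) (hy : y ∈ W) (s : (F.obj i).obj.obj (op W)) :
    gm c.pt W y hy ((c.ι.app i).hom.app (op W) s) = stMap (c.ι.app i) y (gm (F.obj i) W y hy s) :=
  (stMap_gm (c.ι.app i) W y hy s).symm

include hc in
theorem exists_stalk_rep (x : X) (a : CohTop.stalk c.pt x) :
    ∃ (i : ι) (b : CohTop.stalk (F.obj i) x), stMap (c.ι.app i) x b = a :=
  Concrete.isColimit_exists_rep (F ⋙ stk x) (isColimitOfPreserves (stk x) hc) a

include hc in
theorem exists_stalk_zero (x : X) (i : ι) (b : CohTop.stalk (F.obj i) x) (h : stMap (c.ι.app i) x b = 0) :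
    ∃ (j : ι) (hij : i ≤ j), stMap (F.map (homOfLE hij)) x b = 0 := by
  obtain ⟨j, f, g, hfg⟩ := Concrete.isColimit_exists_of_rep_eq (F ⋙ stk x) (isColimitOfPreserves (stk x) hc)
    (i := i) (j := i) b 0 (by rw [map_zero]; exact h)
  refine ⟨j, leOfHom f, ?_⟩
  rw [show homOfLE (leOfHom f) = f from Subsingleton.elim _ _]
  exact hfg.trans (map_zero _)

theorem app_comp_apply {i j k : ι} (h : i ≤ j) (h' : j ≤ k) (U : Opens X) (s : (F.obj i).obj.obj (op U)) :
    (F.map (homOfLE h')).hom.app (op U) ((F.map (homOfLE h)).hom.app (op U) s) =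
      (F.map (homOfLE (h.trans h'))).hom.app (op U) s := by
  have e : F.map (homOfLE h) ≫ F.map (homOfLE h') = F.map (homOfLE (h.trans h')) := (F.map_comp _ _).symm
  exact congrArg (fun φ : F.obj i ⟶ F.obj k => φ.hom.app (op U) s) e

theorem cocone_apply {i j : ι} (h : i ≤ j) (U : Opens X) (s : (F.obj i).obj.obj (op U)) :
    (c.ι.app j).hom.app (op U) ((F.map (homOfLE h)).hom.app (op U) s) = (c.ι.app i).hom.app (op U) s :=
  congrArg (fun φ : F.obj i ⟶ c.pt => φ.hom.app (op U) s) (c.w (homOfLE h))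

include hc in
/-- Injectivity on quasi-compact opens. -/
theorem exists_eq_zero (U : Opens X) (hU : IsCompact (U : Set X)) (i : ι) (s : (F.obj i).obj.obj (op U))
    (h : (c.ι.app i).hom.app (op U) s = 0) :
    ∃ (j : ι) (hij : i ≤ j), (F.map (homOfLE hij)).hom.app (op U) s = 0 := by
  classical
  have hx : ∀ x : U, ∃ (j : ι) (hij : i ≤ j) (M : Opens X) (hM : M ≤ U), x.1 ∈ M ∧
      ∀ (y : X) (hy : y ∈ M), gm (F.obj j) U y (hM hy) ((F.map (homOfLE hij)).hom.app (op U) s) = 0 := fun x => by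
    obtain ⟨j, hij, hj⟩ := exists_stalk_zero hc x.1 i (gm (F.obj i) U x.1 x.2 s) (by rw [stMap_gm, h, map_zero])
    rw [stMap_gm] at hj
    obtain ⟨M, hM, hMU, -, hMe⟩ := exists_eq_near (F.obj j) ((F.map (homOfLE hij)).hom.app (op U) s)
      (0 : (F.obj j).obj.obj (op U)) {x.1} (by
        intro y hy
        obtain rfl : x.1 = y := (show y = x.1 from hy).symm
        exact ⟨x.2, x.2, by rw [hj, map_zero]⟩)
    exact ⟨j, hij, M, hMU, hM rfl, fun y hy => (hMe y (hMU hy) (hMU hy) hy).trans (map_zero _)⟩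
  choose j hij M hMU hxM hM using hx
  obtain ⟨T, hT⟩ := hU.elim_finite_subcover (fun x : U => (M x : Set X)) (fun x => (M x).2)
    fun y hy => Set.mem_iUnion.2 ⟨⟨y, hy⟩, hxM ⟨y, hy⟩⟩
  obtain ⟨k, hk⟩ := Finset.exists_le (insert i (T.image j))
  have hik : i ≤ k := hk i (Finset.mem_insert_self _ _)
  refine ⟨k, hik, gm_ext (F.obj k) U _ _ fun y hy => ?_⟩
  obtain ⟨x, hxT, hyx⟩ := Set.mem_iUnion₂.1 (hT hy)
  have hjk : j x ≤ k := hk _ (Finset.mem_insert_of_mem (Finset.mem_image_of_mem _ hxT))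
  rw [← app_comp_apply (hij x) hjk U s, ← stMap_gm, hM x y hyx, map_zero, map_zero]

variable [PrespectralSpace X] [QuasiSeparatedSpace X]

include hc in
/-- Surjectivity on quasi-compact opens. -/
theorem exists_preimage (U : Opens X) (hU : IsCompact (U : Set X)) (t : c.pt.obj.obj (op U)) :
    ∃ (i : ι) (s : (F.obj i).obj.obj (op U)), (c.ι.app i).hom.app (op U) s = t := by
  classical
  have hx : ∀ x : U, ∃ (i : ι) (W : Opens X) (hW : W ≤ U) (s : (F.obj i).obj.obj (op W)),
      IsCompact (W : Set X) ∧ x.1 ∈ W ∧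
        (c.ι.app i).hom.app (op W) s = c.pt.obj.map (homOfLE hW).op t := fun x => by
    obtain ⟨i, b, hb⟩ := exists_stalk_rep hc x.1 (gm c.pt U x.1 x.2 t)
    obtain ⟨O, hxO, s, rfl⟩ := exists_gm_eq (F.obj i) b
    rw [stMap_gm] at hb
    obtain ⟨M, hM, hMO, hMU, hMe⟩ := exists_eq_near c.pt ((c.ι.app i).hom.app (op O) s) t {x.1} (by
      intro y hy
      obtain rfl : x.1 = y := (show y = x.1 from hy).symm
      exact ⟨hxO, x.2, hb⟩)
    obtain ⟨W, hWc, hxW, hWM⟩ := exists_compact_le (hM rfl : x.1 ∈ M)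
    refine ⟨i, W, hWM.trans hMU, (F.obj i).obj.map (homOfLE (hWM.trans hMO)).op s, hWc, hxW,
      gm_ext c.pt W _ _ fun y hy => ?_⟩
    rw [gm_ι, gm_res, ← gm_ι, gm_res]
    exact hMe y _ _ (hWM hy)
  choose i W hWU s hWc hxW hs using hx
  obtain ⟨T, hT⟩ := hU.elim_finite_subcover (fun x : U => (W x : Set X)) (fun x => (W x).2)
    fun y hy => Set.mem_iUnion.2 ⟨⟨y, hy⟩, hxW ⟨y, hy⟩⟩
  obtain ⟨k, hk⟩ := Finset.exists_le (T.image i)
  let r : ∀ a : T, (F.obj k).obj.obj (op (W a)) := fun a =>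
    (F.map (homOfLE (hk _ (Finset.mem_image_of_mem i a.2)))).hom.app (op (W a)) (s a)
  have hrt : ∀ a : T, (c.ι.app k).hom.app (op (W a)) (r a) = c.pt.obj.map (homOfLE (hWU a)).op t := fun a => by
    rw [cocone_apply, hs]
  let d : ∀ ab : T × T, (F.obj k).obj.obj (op (W ab.1 ⊓ W ab.2)) := fun ab =>
    (F.obj k).obj.map (homOfLE inf_le_left).op (r ab.1) - (F.obj k).obj.map (homOfLE inf_le_right).op (r ab.2)
  have hd : ∀ ab : T × T, (c.ι.app k).hom.app (op (W ab.1 ⊓ W ab.2)) (d ab) = 0 := fun ab =>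
    gm_ext c.pt _ _ _ fun y hy => by
      rw [gm_ι, map_sub, map_sub, gm_res, gm_res, ← gm_ι, ← gm_ι, hrt, hrt, gm_res, gm_res, sub_self,
        map_zero]
  choose l hkl hl using fun ab : T × T => exists_eq_zero hc (W ab.1 ⊓ W ab.2)
    (QuasiSeparatedSpace.inter_isCompact _ _ (W ab.1).2 (hWc ab.1) (W ab.2).2 (hWc ab.2)) k (d ab) (hd ab)
  obtain ⟨m, hm⟩ := Finset.exists_le (insert k (Finset.univ.image l))
  have hkm : k ≤ m := hm k (Finset.mem_insert_self _ _)
  let r' : ∀ a : T, (F.obj m).obj.obj (op (W a)) := fun a => (F.map (homOfLE hkm)).hom.app (op (W a)) (r a)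
  have hagree : ∀ (a b : T) (y : X) (ha : y ∈ W a) (hb : y ∈ W b),
      gm (F.obj m) (W a) y ha (r' a) = gm (F.obj m) (W b) y hb (r' b) := fun a b y ha hb => by
    have hlm : l (a, b) ≤ m := hm _ (Finset.mem_insert_of_mem (Finset.mem_image_of_mem _ (Finset.mem_univ _)))
    have h0 : (F.map (homOfLE hkm)).hom.app (op (W a ⊓ W b)) (d (a, b)) = 0 := by
      rw [← app_comp_apply (hkl (a, b)) hlm, hl (a, b), map_zero]
    have h1 := congrArg (gm (F.obj m) (W a ⊓ W b) y ⟨ha, hb⟩) h0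
    rw [map_zero, ← stMap_gm, map_sub, map_sub, gm_res, gm_res, stMap_gm, stMap_gm, sub_eq_zero] at h1
    exact h1
  have hcov : ∀ y : U, ∃ a : T, y.1 ∈ W a := fun y => by
    obtain ⟨a, ha, hy⟩ := Set.mem_iUnion₂.1 (hT y.2)
    exact ⟨⟨a, ha⟩, hy⟩
  choose a ha using hcov
  obtain ⟨q, hq, -⟩ := existsUnique_section (G := F.obj m) U (fun y => gm (F.obj m) (W (a y)) y.1 (ha y) (r' (a y)))
    fun y => ⟨W (a y), r' (a y), ha y, fun w hw => hagree (a y) (a w) w.1 hw (ha w)⟩
  refine ⟨m, q, gm_ext c.pt U _ _ fun y hy => ?_⟩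
  rw [gm_ι, hq ⟨y, hy⟩, ← gm_ι, cocone_apply, hrt, gm_res]

/-- The discretisation. -/
noncomputable abbrev dsc (X : TopCat.{u}) : (forget TopCat.{u} ⋙ TopCat.discrete).obj X ⟶ X :=
  TopCat.adj₁.counit.app X

/-- The first Godement step as a functor. -/
noncomputable abbrev god0 (X : TopCat.{u}) : CohTop.Ab X ⥤ CohTop.Ab X := mfun (dsc X) ⋙ CohTop.push (dsc X)

/-- The embedding into the first Godement step. -/
noncomputable def godUnit (X : TopCat.{u}) : 𝟭 (CohTop.Ab X) ⟶ god0 X where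
  app F := unit (dsc X) F
  naturality _ _ φ := unit_naturality (dsc X) φ

theorem isFlasque_god0 (G : CohTop.Ab X) : TopCat.Sheaf.IsFlasque ((god0 X).obj G) := by
  haveI : DiscreteTopology ↑((forget TopCat.{u} ⋙ TopCat.discrete).obj X) := ⟨rfl⟩
  haveI : TopCat.Sheaf.IsFlasque ((mfun (dsc X)).obj G) := CohTopX.isFlasque_of_discrete _
  exact TopCat.Sheaf.IsFlasque.pushforward_isFlasque ((mfun (dsc X)).obj G) (dsc X)

theorem mono_godUnit (G : CohTop.Ab X) : Mono ((godUnit X).app G) := by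
  refine (sheafToPresheaf _ _).mono_of_mono_map ?_
  refine @NatTrans.mono_of_mono_app _ _ _ _ _ _ _ fun V => (AddCommGrpCat.mono_iff_injective _).2 fun a b e => ?_
  refine gm_ext G V.unop a b fun x hx => ?_
  exact congrArg (fun t : secs (dsc X) G ((Opens.map (dsc X)).obj V.unop) => t.1 ⟨x, hx⟩ ⟨x, rfl⟩) e

include hc in
theorem isQcFlasque_colimit (hF : ∀ i, IsQcFlasque (F.obj i)) : IsQcFlasque c.pt := fun U V hU hV h t => by
  obtain ⟨i, s, rfl⟩ := exists_preimage hc V hV t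
  obtain ⟨r, rfl⟩ := hF i U V hU hV h s
  exact ⟨(c.ι.app i).hom.app (op U) r, (NatTrans.naturality_apply (c.ι.app i).hom (homOfLE h).op r).symm⟩

/-- The comparison is bijective. -/
def Bij (q : ℕ) (U : Opens X) (F : ι ⥤ CohTop.Ab X) : Prop :=
  (∀ z : Ext (CohCx.freeSheaf (Opens.grothendieckTopology X) U) (colimit F) q, ∃ (i : ι)
      (w : Ext (CohCx.freeSheaf (Opens.grothendieckTopology X) U) (F.obj i) q),
      w.comp (Ext.mk₀ (colimit.ι F i)) (add_zero q) = z) ∧
    ∀ (i : ι) (w : Ext (CohCx.freeSheaf (Opens.grothendieckTopology X) U) (F.obj i) q),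
      w.comp (Ext.mk₀ (colimit.ι F i)) (add_zero q) = 0 →
        ∃ (j : ι) (hij : i ≤ j), w.comp (Ext.mk₀ (F.map (homOfLE hij))) (add_zero q) = 0

set_option maxHeartbeats 1600000 in
theorem bij : ∀ (q : ℕ) (F : ι ⥤ CohTop.Ab X) (U : Opens X), IsCompact (U : Set X) → Bij q U F := by
  intro q
  induction q with
  | zero =>
    intro F U hU
    refine ⟨fun z => ?_, fun i w hw => ?_⟩
    · obtain ⟨φ, rfl⟩ := (Ext.mk₀_bijective _ _).2 z
      obtain ⟨i, s, hs⟩ := exists_preimage (colimit.isColimit F) U hU (SiteCoh.secEquiv U _ φ)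
      refine ⟨i, Ext.mk₀ ((SiteCoh.secEquiv U _).symm s), ?_⟩
      rw [Ext.mk₀_comp_mk₀]
      refine congrArg _ ((SiteCoh.secEquiv U _).injective ?_)
      rw [SiteCoh.secEquiv_comp, AddEquiv.apply_symm_apply]
      exact hs
    · obtain ⟨φ, rfl⟩ := (Ext.mk₀_bijective _ _).2 w
      rw [Ext.mk₀_comp_mk₀, ← Ext.mk₀_zero] at hw
      have h := congrArg (SiteCoh.secEquiv U _) ((Ext.mk₀_bijective _ _).1 hw)
      rw [SiteCoh.secEquiv_comp, map_zero] at h
      obtain ⟨j, hij, hj⟩ := exists_eq_zero (colimit.isColimit F) U hU i (SiteCoh.secEquiv U _ φ) h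
      refine ⟨j, hij, ?_⟩
      rw [Ext.mk₀_comp_mk₀, ← Ext.mk₀_zero]
      refine congrArg _ ((SiteCoh.secEquiv U _).injective ?_)
      rw [SiteCoh.secEquiv_comp, map_zero, hj]
  | succ q ih =>
    intro F U hU
    let η : F ⟶ F ⋙ god0 X := Functor.whiskerLeft F (godUnit X)
    haveI : ∀ i, Mono (η.app i) := fun i => mono_godUnit (F.obj i)
    haveI : Mono η := NatTrans.mono_of_mono_app η
    let T : ShortComplex (ι ⥤ CohTop.Ab X) := ShortComplex.mk η (cokernel.π η) (cokernel.condition η)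
    have hT : T.ShortExact := { exact := ShortComplex.exact_cokernel η }
    have hTi : ∀ i, (T.map ((evaluation ι (CohTop.Ab X)).obj i)).ShortExact := fun i => hT.map_of_exact _
    haveI : PreservesFiniteLimits (colim : (ι ⥤ CohTop.Ab X) ⥤ _) := HasExactColimitsOfShape.preservesFiniteLimits
    haveI : (colim : (ι ⥤ CohTop.Ab X) ⥤ CohTop.Ab X).Additive :=
      ⟨fun {A B f g} => colimit.hom_ext fun k => by simp⟩
    have hC : (T.map colim).ShortExact := hT.map_of_exact _
    let h₀ : ∀ i, T.map ((evaluation ι (CohTop.Ab X)).obj i) ⟶ T.map colim := fun i =>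
      { τ₁ := colimit.ι T.X₁ i
        τ₂ := colimit.ι T.X₂ i
        τ₃ := colimit.ι T.X₃ i
        comm₁₂ := colimit.ι_map T.f i
        comm₂₃ := colimit.ι_map T.g i }
    let h₁ : ∀ {i j : ι} (hij : i ≤ j), T.map ((evaluation ι (CohTop.Ab X)).obj i) ⟶
        T.map ((evaluation ι (CohTop.Ab X)).obj j) := fun {i j} hij =>
      T.mapNatTrans ((evaluation ι (CohTop.Ab X)).map (homOfLE hij))
    have hI : Subsingleton (Ext (CohCx.freeSheaf (Opens.grothendieckTopology X) U) (T.map colim).X₂ (q + 1)) :=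
      subsingleton_HU_of_isQcFlasque q _ (isQcFlasque_colimit (colimit.isColimit (F ⋙ god0 X)) fun i =>
        @isQcFlasque_of_flasque X ((F ⋙ god0 X).obj i) (isFlasque_god0 (F.obj i))) U hU
    have hIi : ∀ i, Subsingleton (Ext (CohCx.freeSheaf (Opens.grothendieckTopology X) U)
        (T.map ((evaluation ι (CohTop.Ab X)).obj i)).X₂ (q + 1)) := fun i =>
      subsingleton_HU_of_isQcFlasque q _
        (@isQcFlasque_of_flasque X ((F ⋙ god0 X).obj i) (isFlasque_god0 (F.obj i))) U hU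
    have hnat : ∀ (i : ι) (v : Ext (CohCx.freeSheaf (Opens.grothendieckTopology X) U)
        (T.map ((evaluation ι (CohTop.Ab X)).obj i)).X₃ q),
        (v.comp (hTi i).extClass rfl).comp (Ext.mk₀ (colimit.ι F i)) (add_zero (q + 1)) =
          (v.comp (Ext.mk₀ (colimit.ι T.X₃ i)) (add_zero q)).comp hC.extClass rfl := fun i v => by
      have e := ShortComplex.ShortExact.extClass_naturality (hTi i) hC (h₀ i)
      rw [Ext.comp_assoc _ _ _ (rfl : q + 1 = q + 1) (add_zero 1) (by omega),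
        Ext.comp_assoc _ _ _ (add_zero q) (zero_add 1) (by omega)]
      exact congrArg (fun k => v.comp k rfl) e
    have hnat' : ∀ {i j : ι} (hij : i ≤ j) (v : Ext (CohCx.freeSheaf (Opens.grothendieckTopology X) U)
        (T.map ((evaluation ι (CohTop.Ab X)).obj i)).X₃ q),
        (v.comp (hTi i).extClass rfl).comp (Ext.mk₀ (F.map (homOfLE hij))) (add_zero (q + 1)) =
          (v.comp (Ext.mk₀ (T.X₃.map (homOfLE hij))) (add_zero q)).comp (hTi j).extClass rfl := fun {i j} hij v => by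
      have e := ShortComplex.ShortExact.extClass_naturality (hTi i) (hTi j) (h₁ hij)
      rw [Ext.comp_assoc _ _ _ (rfl : q + 1 = q + 1) (add_zero 1) (by omega),
        Ext.comp_assoc _ _ _ (add_zero q) (zero_add 1) (by omega)]
      exact congrArg (fun k => v.comp k rfl) e
    refine ⟨fun z => ?_, fun i w hw => ?_⟩
    · obtain ⟨v, rfl⟩ := Ext.covariant_sequence_exact₁ _ hC z (Subsingleton.elim _ _) rfl
      obtain ⟨i, v, rfl⟩ := (ih T.X₃ U hU).1 v
      exact ⟨i, v.comp (hTi i).extClass rfl, hnat i v⟩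
    · obtain ⟨v, rfl⟩ := Ext.covariant_sequence_exact₁ _ (hTi i) w ((hIi i).elim _ _) rfl
      have hv : (v.comp (Ext.mk₀ (colimit.ι T.X₃ i)) (add_zero q)).comp hC.extClass rfl = 0 :=
        (hnat i v).symm.trans hw
      obtain ⟨y, hy⟩ := Ext.covariant_sequence_exact₃ _ hC _ rfl hv
      obtain ⟨j, y, rfl⟩ := (ih T.X₂ U hU).1 y
      obtain ⟨k, hik, hjk⟩ := exists_ge_ge i j
      let v' := v.comp (Ext.mk₀ (T.X₃.map (homOfLE hik))) (add_zero q) -
        (y.comp (Ext.mk₀ (T.X₂.map (homOfLE hjk))) (add_zero q)).comp (Ext.mk₀ (T.g.app k)) (add_zero q)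
      obtain ⟨l, hkl, hl⟩ := (ih T.X₃ U hU).2 k v' (by
        refine (sub_comp' _ _ _).trans (sub_eq_zero.2 ?_)
        refine (comp_mk₀_mk₀ _ _ _).trans ?_
        refine Eq.trans ?_ ((congrArg (fun a => a.comp (Ext.mk₀ (colimit.ι T.X₃ k)) (add_zero q))
          (comp_mk₀_mk₀ _ _ _)).trans (comp_mk₀_mk₀ _ _ _)).symm
        rw [colimit.w]
        refine hy.symm.trans ((comp_mk₀_mk₀ _ _ _).trans (congrArg (fun a => y.comp (Ext.mk₀ a) (add_zero q)) ?_))
        change colimit.ι T.X₂ j ≫ colimMap T.g = _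
        rw [ι_colimMap, assoc, ← colimit.w T.X₃ (homOfLE hjk), ← assoc (T.g.app j), ← T.g.naturality, assoc])
      refine ⟨l, hik.trans hkl, ?_⟩
      rw [hnat']
      have h1 : v.comp (Ext.mk₀ (T.X₃.map (homOfLE (hik.trans hkl)))) (add_zero q) =
          (y.comp (Ext.mk₀ (T.X₂.map (homOfLE hjk) ≫ T.X₂.map (homOfLE hkl))) (add_zero q)).comp
            (Ext.mk₀ (T.g.app l)) (add_zero q) := by
        have h2 := sub_eq_zero.1 ((sub_comp' _ _ _).symm.trans hl)
        rw [show T.X₃.map (homOfLE (hik.trans hkl)) = T.X₃.map (homOfLE hik) ≫ T.X₃.map (homOfLE hkl) from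
          T.X₃.map_comp _ _]
        refine (comp_mk₀_mk₀ _ _ _).symm.trans (h2.trans ?_)
        rw [comp_mk₀_mk₀, comp_mk₀_mk₀, comp_mk₀_mk₀]
        refine congrArg (fun φ => y.comp (Ext.mk₀ φ) (add_zero q)) ?_
        exact ((assoc _ _ _).trans (congrArg (fun m => T.X₂.map (homOfLE hjk) ≫ m) (T.g.naturality (homOfLE hkl)))).symm
      rw [h1, Ext.comp_assoc _ _ _ (add_zero q) (zero_add 1) (by omega)]
      exact (congrArg (fun a => (y.comp (Ext.mk₀ _) (add_zero q)).comp a rfl)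
        (hTi l).comp_extClass).trans (Ext.comp_zero _ _ _ _ _)

theorem preservesColimitsOfShape_HU (U : Opens X) (hU : IsCompact (U : Set X)) (q : ℕ) :
    PreservesColimitsOfShape ι
      ((Sheaf.cohomologyPresheafFunctor (Opens.grothendieckTopology X) q).flip.obj (op U) :
        CohTop.Ab X ⥤ AddCommGrpCat.{u}) := by
  refine ⟨fun {F} => preservesColimit_of_preserves_colimit_cocone (colimit.isColimit F) ?_⟩
  let G := (Sheaf.cohomologyPresheafFunctor (Opens.grothendieckTopology X) q).flip.obj (op U)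
  haveI : ReflectsColimit (F ⋙ G) (forget AddCommGrpCat.{u}) := reflectsColimit_of_reflectsIsomorphisms _ _
  refine isColimitOfReflects (forget AddCommGrpCat.{u}) ?_
  obtain ⟨hs, hi⟩ := bij q F U hU
  refine Types.FilteredColimit.isColimitOf _ _ (fun z => ?_) fun i j a b h => ?_
  · obtain ⟨i, w, hw⟩ := hs z
    exact ⟨i, w, hw.symm⟩
  · obtain ⟨k, hik, hjk⟩ := exists_ge_ge i j
    let P := CohCx.freeSheaf (Opens.grothendieckTopology X) U
    let a' : Ext P (F.obj i) q := a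
    let b' : Ext P (F.obj j) q := b
    obtain ⟨l, hkl, hl⟩ := hi k (a'.comp (Ext.mk₀ (F.map (homOfLE hik))) (add_zero q) -
        b'.comp (Ext.mk₀ (F.map (homOfLE hjk))) (add_zero q)) (by
      refine (sub_comp' _ _ _).trans (sub_eq_zero.2 ?_)
      rw [comp_mk₀_mk₀, comp_mk₀_mk₀, colimit.w, colimit.w]
      exact h)
    refine ⟨l, homOfLE (hik.trans hkl), homOfLE (hjk.trans hkl), ?_⟩
    have h2 := sub_eq_zero.1 ((sub_comp' _ _ _).symm.trans hl)
    rw [comp_mk₀_mk₀, comp_mk₀_mk₀, ← Functor.map_comp, ← Functor.map_comp] at h2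
    exact h2

end Groth.Agent.TopQC
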