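import Groth.Agent.TopCompact.Soft
import Mathlib.Topology.Spectral.Prespectral
import Mathlib.Topology.QuasiSeparated

/-!
Sheaves with surjective restrictions between quasi-compact opens are acyclic on quasi-compact opens.
-/

set_option autoImplicit false
set_option linter.style.haveILetI false
set_option linter.unusedSectionVars false
set_option backward.isDefEq.respectTransparency false
set_option backward.isDefEq.respectTransparency.types false

universe u

open CategoryTheory Category Limits Opposite TopologicalSpace Abelian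
open Groth.Agent.TopPullModel Groth.Agent.TopCompact

namespace Groth.Agent.TopQC

variable {X : TopCat.{u}}

/-- Restrictions between quasi-compact opens are surjective. -/
def IsQcFlasque (G : CohTop.Ab X) : Prop :=
  ∀ (U V : Opens X) (_ : IsCompact (U : Set X)) (_ : IsCompact (V : Set X)) (h : V ≤ U),
    Function.Surjective (G.obj.map (homOfLE h).op)

theorem isQcFlasque_of_flasque (G : CohTop.Ab X) [TopCat.Sheaf.IsFlasque G] : IsQcFlasque G :=
  fun _ _ _ _ h t => res_surjective_of_flasque G h t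

/-- Gluing two sections. -/
theorem exists_glue_res (G : CohTop.Ab X) {A B : Opens X} (s : G.obj.obj (op A)) (t : G.obj.obj (op B))
    (h : ∀ (x : X) (hA : x ∈ A) (hB : x ∈ B), gm G A x hA s = gm G B x hB t) :
    ∃ r : G.obj.obj (op (A ⊔ B)), G.obj.map (homOfLE (le_sup_left : A ≤ A ⊔ B)).op r = s ∧
      G.obj.map (homOfLE (le_sup_right : B ≤ A ⊔ B)).op r = t := by
  classical
  let g : ∀ x : (A ⊔ B : Opens X), CohTop.stalk G x.1 := fun x =>
    if hx : x.1 ∈ A then gm G A x.1 hx s else gm G B x.1 (x.2.resolve_left hx) t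
  have gA : ∀ (x : (A ⊔ B : Opens X)) (hx : x.1 ∈ A), g x = gm G A x.1 hx s := fun x hx => dif_pos hx
  have gB : ∀ (x : (A ⊔ B : Opens X)) (hx : x.1 ∈ B), g x = gm G B x.1 hx t := fun x hx => by
    by_cases hx' : x.1 ∈ A
    · rw [gA x hx']
      exact h x.1 hx' hx
    · exact dif_neg hx'
  obtain ⟨r, hr, -⟩ := existsUnique_section (G := G) (A ⊔ B) g fun x => by
    rcases x.2 with hx | hx
    · exact ⟨A, s, hx, fun w hw => (gA w hw).symm⟩
    · exact ⟨B, t, hx, fun w hw => (gB w hw).symm⟩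
  refine ⟨r, gm_ext G A _ _ fun x hx => ?_, gm_ext G B _ _ fun x hx => ?_⟩
  · rw [gm_res]
    exact (hr ⟨x, Or.inl hx⟩).trans (gA ⟨x, Or.inl hx⟩ hx)
  · rw [gm_res]
    exact (hr ⟨x, Or.inr hx⟩).trans (gB ⟨x, Or.inr hx⟩ hx)

/-- Sections killed by an epimorphism come from the kernel. -/
theorem exists_preimage_section {S : ShortComplex (CohTop.Ab X)} (hS : S.ShortExact) (W : Opens X)
    (d : S.X₂.obj.obj (op W)) (hd : S.g.hom.app (op W) d = 0) :
    ∃ e : S.X₁.obj.obj (op W), S.f.hom.app (op W) e = d := by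
  have hex : ∀ v : W, ∃ a, stMap S.f v.1 a = gm S.X₂ W v.1 v.2 d := fun v =>
    (stk_shortExact hS v.1).2.1 _ (by rw [stMap_gm, hd, map_zero])
  choose a ha using hex
  obtain ⟨e, he, -⟩ := existsUnique_section (G := S.X₁) W a fun v => by
    obtain ⟨O, hO, e, he⟩ := exists_gm_eq S.X₁ (a v)
    obtain ⟨M, hM, hMO, -, hMe⟩ := exists_eq_near S.X₂ (S.f.hom.app (op O) e) d {v.1} (by
      intro y hy
      obtain rfl : v.1 = y := (show y = v.1 from hy).symm
      exact ⟨hO, v.2, by rw [← stMap_gm, he, ha]⟩)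
    refine ⟨M, S.X₁.obj.map (homOfLE hMO).op e, hM rfl, fun w hw => (stk_shortExact hS w.1).1 ?_⟩
    rw [ha, gm_res, stMap_gm]
    exact hMe w.1 (hMO hw) w.2 hw
  refine ⟨e, gm_ext S.X₂ W _ _ fun x hx => ?_⟩
  rw [← stMap_gm, he ⟨x, hx⟩]
  exact ha ⟨x, hx⟩

variable [PrespectralSpace X] [QuasiSeparatedSpace X]

theorem exists_compact_le {U : Opens X} {x : X} (hx : x ∈ U) :
    ∃ W : Opens X, IsCompact (W : Set X) ∧ x ∈ W ∧ W ≤ U := by
  obtain ⟨W, ⟨hWo, hWc⟩, hxW, hWU⟩ :=
    PrespectralSpace.isTopologicalBasis.exists_subset_of_mem_open hx U.2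
  exact ⟨⟨W, hWo⟩, hWc, hxW, hWU⟩

/-- Lifting sections over quasi-compact opens. -/
theorem surjective_app {S : ShortComplex (CohTop.Ab X)} (hS : S.ShortExact) (h₁ : IsQcFlasque S.X₁)
    (U : Opens X) (hU : IsCompact (U : Set X)) : Function.Surjective (S.g.hom.app (op U)) := fun t => by
  classical
  have hloc : ∀ x : U, ∃ (W : Opens X) (hW : W ≤ U), IsCompact (W : Set X) ∧ x.1 ∈ W ∧
      ∃ s : S.X₂.obj.obj (op W), S.g.hom.app (op W) s = S.X₃.obj.map (homOfLE hW).op t := fun x => by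
    obtain ⟨b, hb⟩ := (stk_shortExact hS x.1).2.2 (gm S.X₃ U x.1 x.2 t)
    obtain ⟨O, hxO, s, rfl⟩ := exists_gm_eq S.X₂ b
    rw [stMap_gm] at hb
    obtain ⟨M, hM, hMO, hMU, hMe⟩ := exists_eq_near S.X₃ (S.g.hom.app (op O) s) t {x.1} (by
      intro y hy
      obtain rfl : x.1 = y := (show y = x.1 from hy).symm
      exact ⟨hxO, x.2, hb⟩)
    obtain ⟨W, hWc, hxW, hWM⟩ := exists_compact_le (hM rfl : x.1 ∈ M)
    refine ⟨W, hWM.trans hMU, hWc, hxW, S.X₂.obj.map (homOfLE (hWM.trans hMO)).op s, gm_ext S.X₃ W _ _ fun y hy => ?_⟩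
    rw [← stMap_gm, gm_res, stMap_gm, gm_res]
    exact hMe y _ _ (hWM hy)
  choose W hWU hWc hxW s hs using hloc
  obtain ⟨F, hF⟩ := hU.elim_finite_subcover (fun x : U => (W x : Set X)) (fun x => (W x).2)
    fun y hy => Set.mem_iUnion.2 ⟨⟨y, hy⟩, hxW ⟨y, hy⟩⟩
  have key : ∀ F : Finset U, IsCompact ((F.sup W : Opens X) : Set X) ∧ ∀ h : F.sup W ≤ U,
      ∃ r : S.X₂.obj.obj (op (F.sup W)), S.g.hom.app (op (F.sup W)) r = S.X₃.obj.map (homOfLE h).op t := by
    intro F
    induction F using Finset.induction with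
    | empty =>
      rw [Finset.sup_empty]
      refine ⟨by simp, fun h => ⟨0, ?_⟩⟩
      rw [map_zero]
      exact gm_ext S.X₃ ⊥ _ _ fun x hx => hx.elim
    | insert a F ha ih =>
      rw [Finset.sup_insert]
      obtain ⟨hFc, hFr⟩ := ih
      refine ⟨(hWc a).union hFc, fun h => ?_⟩
      obtain ⟨r, hr⟩ := hFr (le_sup_right.trans h)
      let B := F.sup W
      let AB : Opens X := W a ⊓ B
      have hABc : IsCompact (AB : Set X) :=
        QuasiSeparatedSpace.inter_isCompact _ _ (W a).2 (hWc a) B.2 hFc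
      let d : S.X₂.obj.obj (op AB) := S.X₂.obj.map (homOfLE inf_le_right).op r -
        S.X₂.obj.map (homOfLE inf_le_left).op (s a)
      obtain ⟨e, he⟩ := exists_preimage_section hS AB d (gm_ext S.X₃ AB _ _ fun x hx => by
        rw [← stMap_gm, map_zero, map_sub, map_sub, gm_res, gm_res, stMap_gm, stMap_gm, hr, hs a, gm_res, gm_res,
          sub_self])
      obtain ⟨e', he'⟩ := h₁ (W a) AB (hWc a) hABc inf_le_left e
      let sa : S.X₂.obj.obj (op (W a)) := s a + S.f.hom.app (op (W a)) e'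
      obtain ⟨q, hq₁, hq₂⟩ := exists_glue_res S.X₂ sa r fun x hxA hxB => by
        have h1 : gm S.X₂ AB x ⟨hxA, hxB⟩ d = gm S.X₂ B x hxB r - gm S.X₂ (W a) x hxA (s a) := by
          rw [map_sub, gm_res, gm_res]
        rw [map_add, ← gm_res S.X₂ (inf_le_left : AB ≤ W a) x ⟨hxA, hxB⟩ (S.f.hom.app (op (W a)) e'),
          ← NatTrans.naturality_apply S.f.hom (homOfLE (inf_le_left : AB ≤ W a)).op e', he', he, h1,
          add_sub_cancel]
      refine ⟨q, gm_ext S.X₃ _ _ _ fun x hx => ?_⟩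
      rw [← stMap_gm, gm_res]
      rcases hx with hx | hx
      · rw [← gm_res S.X₂ (le_sup_left : W a ≤ W a ⊔ B) x hx q, hq₁, stMap_gm, map_add, hs a, map_add, gm_res,
          ← stMap_gm, ← stMap_gm]
        have h0 : stMap S.g x (stMap S.f x (gm S.X₁ (W a) x hx e')) = 0 :=
          ConcreteCategory.congr_hom (S.map (stk x)).zero _
        rw [h0, add_zero]
      · rw [← gm_res S.X₂ (le_sup_right : B ≤ W a ⊔ B) x hx q, hq₂, stMap_gm, hr, gm_res]
  have e : F.sup W = U := le_antisymm (Finset.sup_le fun a _ => hWU a) fun y hy => by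
    obtain ⟨a, haF, hya⟩ := Set.mem_iUnion₂.1 (hF hy)
    exact (Finset.le_sup (f := W) haF) hya
  obtain ⟨r, hr⟩ := (key F).2 e.le
  refine ⟨S.X₂.obj.map (homOfLE e.ge).op r, ?_⟩
  rw [NatTrans.naturality_apply, hr]
  exact gm_ext S.X₃ U _ _ fun x hx => by rw [gm_res, gm_res]

/-- Quotients of qc-flasque sheaves by qc-flasque sheaves are qc-flasque. -/
theorem isQcFlasque_quotient {S : ShortComplex (CohTop.Ab X)} (hS : S.ShortExact) (h₁ : IsQcFlasque S.X₁)
    (h₂ : IsQcFlasque S.X₂) : IsQcFlasque S.X₃ := fun U V hU hV h t => by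
  obtain ⟨s, rfl⟩ := surjective_app hS h₁ V hV t
  obtain ⟨r, rfl⟩ := h₂ U V hU hV h s
  exact ⟨S.g.hom.app (op U) r, (NatTrans.naturality_apply S.g.hom (homOfLE h).op r).symm⟩

/-- Qc-flasque sheaves are acyclic on quasi-compact opens. -/
theorem subsingleton_HU_of_isQcFlasque : ∀ (n : ℕ) (G : CohTop.Ab X), IsQcFlasque G →
    ∀ U : Opens X, IsCompact (U : Set X) →
      Subsingleton (Ext (CohCx.freeSheaf (Opens.grothendieckTopology X) U) G (n + 1)) := by
  intro n
  induction n with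
  | zero =>
    intro G hG U hU
    let S : ShortComplex (CohTop.Ab X) :=
      ShortComplex.mk (Injective.ι G) (cokernel.π (Injective.ι G)) (cokernel.condition _)
    have hS : S.ShortExact := { exact := ShortComplex.exact_cokernel (Injective.ι G) }
    haveI : Injective S.X₂ := inferInstanceAs (Injective (Injective.under G))
    haveI : Subsingleton (Ext (CohCx.freeSheaf (Opens.grothendieckTopology X) U) S.X₂ 1) :=
      subsingleton_of_forall_eq 0 fun x => Ext.eq_zero_of_injective x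
    refine SiteCoh.subsingleton_ext_one_of_lift hS _ fun φ => ?_
    obtain ⟨s, hs⟩ := surjective_app hS hG U hU (SiteCoh.secEquiv U S.X₃ φ)
    refine ⟨(SiteCoh.secEquiv U S.X₂).symm s, (SiteCoh.secEquiv U S.X₃).injective ?_⟩
    rw [SiteCoh.secEquiv_comp, AddEquiv.apply_symm_apply]
    exact hs
  | succ n ih =>
    intro G hG U hU
    let S : ShortComplex (CohTop.Ab X) :=
      ShortComplex.mk (Injective.ι G) (cokernel.π (Injective.ι G)) (cokernel.condition _)
    have hS : S.ShortExact := { exact := ShortComplex.exact_cokernel (Injective.ι G) }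
    haveI : Injective S.X₂ := inferInstanceAs (Injective (Injective.under G))
    haveI : TopCat.Sheaf.IsFlasque S.X₂ := S0454.result S.X₂
    haveI : Subsingleton (Ext (CohCx.freeSheaf (Opens.grothendieckTopology X) U) S.X₂ (n + 1 + 1)) :=
      subsingleton_of_forall_eq 0 fun x => Ext.eq_zero_of_injective x
    haveI := ih S.X₃ (isQcFlasque_quotient hS hG (isQcFlasque_of_flasque S.X₂)) U hU
    exact SiteCoh.subsingleton_ext_succ hS _ (n + 1)

end Groth.Agent.TopQC
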