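import Groth.Agent.TopQC.Gen
import Groth.Agent.TopCompact.Fibre

/-!
Stalks of direct images along spectral maps.
-/

set_option autoImplicit false
set_option linter.style.haveILetI false
set_option linter.unusedSectionVars false
set_option backward.isDefEq.respectTransparency false
set_option backward.isDefEq.respectTransparency.types false

universe u

open CategoryTheory Category Limits Opposite TopologicalSpace
open Groth.Agent.TopPullModel Groth.Agent.TopFinite Groth.Agent.TopCompact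
open scoped Topology

namespace Groth.Agent.TopQC

variable {X Y Z : TopCat.{u}}

/-- The specialization map between stalks. -/
noncomputable def spec (F : CohTop.Ab Y) {x y : Y} (h : x ⤳ y) : CohTop.stalk F y →+ CohTop.stalk F x :=
  (TopCat.Presheaf.stalkSpecializes (C := AddCommGrpCat.{u}) (X := Y) F.obj h).hom

theorem spec_gm (F : CohTop.Ab Y) {x y : Y} (h : x ⤳ y) (O : Opens Y) (hy : y ∈ O) (s : F.obj.obj (op O)) :
    spec F h (gm F O y hy s) = gm F O x (h.mem_open O.isOpen hy) s :=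
  ConcreteCategory.congr_hom (TopCat.Presheaf.germ_stalkSpecializes (C := AddCommGrpCat.{u}) (X := Y) F.obj hy h) s

variable (f : X ⟶ Y) (y : Y) (ι : Z ⟶ X) (hy : ∀ z, f (ι z) ⤳ y)

/-- A germ of the direct image gives germs along the generalizations of the fibre. -/
noncomputable def stalkToGen (G : CohTop.Ab X) : CohTop.stalk ((CohTop.push f).obj G) y →+ secs ι G ⊤ where
  toFun a := ⟨fun z x => adjSt f (𝟙 ((CohTop.push f).obj G)) x.1 ⟨f x.1, rfl⟩
      (spec ((CohTop.push f).obj G) (show f x.1 ⤳ y from x.2 ▸ hy z.1) a), fun z => by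
    obtain ⟨O, hO, s, rfl⟩ := exists_gm_eq ((CohTop.push f).obj G) a
    refine ⟨(Opens.map f).obj O, s, ⊤, trivial, fun v _ => ⟨(hy v.1).mem_open O.isOpen hO, fun x hx hO' => ?_⟩⟩
    refine (congrArg (adjSt f (𝟙 ((CohTop.push f).obj G)) x ⟨f x, rfl⟩) (spec_gm ((CohTop.push f).obj G) _ O hO s)).trans ?_
    exact adjSt_gm f (𝟙 ((CohTop.push f).obj G)) x ⟨f x, rfl⟩ O _ s⟩
  map_zero' := secs_ext fun z x hx => by simp
  map_add' a b := secs_ext fun z x hx => by simp

theorem stalkToGen_gm (G : CohTop.Ab X) (O : Opens Y) (hO : y ∈ O)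
    (s : ((CohTop.push f).obj G).obj.obj (op O)) (z : (⊤ : Opens Z)) :
    (stalkToGen f y ι hy G (gm ((CohTop.push f).obj G) O y hO s)).1 z ⟨ι z.1, rfl⟩ =
      gm G ((Opens.map f).obj O) (ι z.1) ((hy z.1).mem_open O.isOpen hO) s :=
  (congrArg (adjSt f (𝟙 ((CohTop.push f).obj G)) (ι z.1) ⟨f (ι z.1), rfl⟩)
    (spec_gm ((CohTop.push f).obj G) (hy z.1) O hO s)).trans
    (adjSt_gm f (𝟙 ((CohTop.push f).obj G)) (ι z.1) ⟨f (ι z.1), rfl⟩ O _ s)

/-- The comparison of the stalk with the sections on the generalizations of the fibre. -/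
noncomputable def stalkToGenNat : CohTop.push f ⋙ stk y ⟶ mfun ι ⋙ top' Z where
  app G := AddCommGrpCat.ofHom (X := CohTop.stalk ((CohTop.push f).obj G) y) (Y := secs ι G ⊤)
    (stalkToGen f y ι hy G)
  naturality {G G'} h := AddCommGrpCat.ext fun (a : CohTop.stalk ((CohTop.push f).obj G) y) => by
    obtain ⟨O, hO, s, rfl⟩ := exists_gm_eq ((CohTop.push f).obj G) a
    refine secs_ext fun z x hx => ?_
    subst hx
    change (stalkToGen f y ι hy G' (stMap ((CohTop.push f).map h) y (gm ((CohTop.push f).obj G) O y hO s))).1 z ⟨ι z.1, rfl⟩ =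
      stMap h (ι z.1) ((stalkToGen f y ι hy G (gm ((CohTop.push f).obj G) O y hO s)).1 z ⟨ι z.1, rfl⟩)
    rw [stMap_gm, stalkToGen_gm, stalkToGen_gm, stMap_gm]
    rfl

variable [SpectralSpace X] [SpectralSpace Y] (hf : IsSpectralMap f)

/-- Preimages of the quasi-compact neighbourhoods of a point. -/
def preNhds : Set (Opens X) :=
  {U | ∃ V : Opens Y, y ∈ V ∧ IsCompact (V : Set Y) ∧ U = (Opens.map f).obj V}

variable (h : GenEmb ι (preNhds f y))

include h in
theorem bijective_stalkToGen (G : CohTop.Ab X) : Function.Bijective (stalkToGen f y ι hy G) := by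
  refine ⟨(injective_iff_map_eq_zero _).2 fun a ha => ?_, fun t => ?_⟩
  · obtain ⟨O, hO, s, rfl⟩ := exists_gm_eq ((CohTop.push f).obj G) a
    obtain ⟨V₀, hV₀c, hyV₀, hV₀O⟩ := exists_compact_le hO
    obtain ⟨W, hW, hWO, -, hWe⟩ := exists_eq_near G (U := (Opens.map f).obj O) (V := (Opens.map f).obj O) s 0
      (Set.range ι) (by
        rintro _ ⟨z, rfl⟩
        refine ⟨(hy z).mem_open O.isOpen hO, (hy z).mem_open O.isOpen hO, ?_⟩
        rw [map_zero, ← stalkToGen_gm f y ι hy G O hO s ⟨z, trivial⟩, ha]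
        rfl)
    obtain ⟨M, ⟨V₁, hyV₁, hV₁c, rfl⟩, hMW⟩ := h.exists_le ((Opens.map f).obj V₀)
      (h.compact _ ⟨V₀, hyV₀, hV₀c, rfl⟩) W fun x hx => hW hx.1
    let V' : Opens Y := (V₁ ⊓ V₀) ⊓ O
    have hyV' : y ∈ V' := ⟨⟨hyV₁, hyV₀⟩, hO⟩
    rw [← gm_res ((CohTop.push f).obj G) (inf_le_right : V' ≤ O) y hyV' s]
    have e : ((CohTop.push f).obj G).obj.map (homOfLE (inf_le_right : V' ≤ O)).op s = 0 := by
      refine gm_ext G ((Opens.map f).obj V') _ _ fun x hx => ?_
      change gm G ((Opens.map f).obj V') x hx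
        (G.obj.map (homOfLE (show (Opens.map f).obj V' ≤ (Opens.map f).obj O from fun v hv => hv.2)).op s) = _
      rw [gm_res, hWe x hx.2 hx.2 (hMW hx.1), map_zero, map_zero]
    rw [e, map_zero]
  · obtain ⟨M, ⟨V, hyV, hVc, rfl⟩, s, hs⟩ := h.exists_section_near G ⊤ (by simpa using isCompact_univ) t
    refine ⟨gm ((CohTop.push f).obj G) V y hyV
      (G.obj.map (homOfLE (show (Opens.map f).obj V ≤ (Opens.map f).obj V ⊓ ⊤ from le_inf le_rfl le_top)).op s),
      secs_ext fun z x hx => ?_⟩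
    subst hx
    rw [stalkToGen_gm, gm_res]
    exact hs z _

include hy h in
/-- The stalk of a higher direct image along a spectral map. -/
theorem nonempty_stalk_Rpush (F : CohTop.Ab X) (p : ℕ) :
    Nonempty (CohTop.stalk ((CohTop.Rpush f p).obj F) y ≅
      AddCommGrpCat.of (CohTop.H ((CohTop.pull ι).obj F) p)) := by
  obtain ⟨a⟩ := GrothSS.nonempty_rightDerived_comp_exact (CohTop.push f) (stk y) p F
  obtain ⟨b⟩ := GrothSS.nonempty_rightDerived_comp_acyclic (mfun ι) (gam Z) (fun Q hQ r hr => by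
    obtain ⟨r, rfl⟩ : ∃ r', r = r' + 1 := ⟨r - 1, by omega⟩
    haveI := hQ
    haveI : TopCat.Sheaf.IsFlasque Q := S0454.result Q
    exact h.isZero_gamDerived_mfun Q r) p F
  haveI : IsIso (stalkToGenNat f y ι hy) := by
    suffices ∀ G, IsIso ((stalkToGenNat f y ι hy).app G) from NatIso.isIso_of_isIso_app _
    intro G
    exact (ConcreteCategory.isIso_iff_bijective _).2 (bijective_stalkToGen f y ι hy h G)
  let e : CohTop.push f ⋙ stk y ≅ mfun ι ⋙ gam Z :=
    asIso (stalkToGenNat f y ι hy) ≪≫ Functor.isoWhiskerLeft (mfun ι) (gamTop Z).symm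
  exact ⟨a.symm ≪≫ (GrothSS.rightDerivedMapIso e p).app F ≪≫ b ≪≫ gamDerived p _ ≪≫
    CohTopDesc.hIso ((mfunIso ι).app F) p⟩

include hf in
theorem genEmb_preNhds :
    GenEmb (TopCat.ofHom ⟨Subtype.val, continuous_subtype_val⟩ : TopCat.of {x : X | y ∈ closure {f x}} ⟶ X)
      (preNhds f y) := by
  refine ⟨Topology.IsEmbedding.subtypeVal, ?_, ?_, ?_, fun x => ⟨?_, fun hx => ?_⟩⟩
  · rintro _ ⟨V, -, hVc, rfl⟩
    exact hf.isCompact_preimage_of_isOpen V.2 hVc
  · obtain ⟨V, hVc, hyV, -⟩ := exists_compact_le (U := (⊤ : Opens Y)) (show y ∈ (⊤ : Opens Y) from trivial)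
    exact ⟨_, V, hyV, hVc, rfl⟩
  · rintro _ ⟨V, hyV, hVc, rfl⟩ _ ⟨V', hyV', hVc', rfl⟩
    exact ⟨_, ⟨V ⊓ V', ⟨hyV, hyV'⟩, QuasiSeparatedSpace.inter_isCompact _ _ V.2 hVc V'.2 hVc', rfl⟩, le_rfl⟩
  · rintro ⟨⟨x', hx'⟩, rfl⟩ _ ⟨V, hyV, -, rfl⟩
    exact (specializes_iff_mem_closure.2 hx').mem_open V.isOpen hyV
  · refine ⟨⟨x, specializes_iff_mem_closure.1 (specializes_iff_forall_open.2 fun O hO hyO => ?_)⟩, rfl⟩
    obtain ⟨V, hVc, hyV, hVO⟩ := exists_compact_le (U := (⟨O, hO⟩ : Opens Y)) hyO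
    exact hVO (hx _ ⟨V, hyV, hVc, rfl⟩)

end Groth.Agent.TopQC
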