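import Groth.Agent.TopQC.Gen
import Groth.Agent.TopCompact.Colim

/-!
Cohomology of an intersection of quasi-compact opens as a colimit over these opens.
-/

set_option autoImplicit false
set_option linter.style.haveILetI false
set_option linter.unusedSectionVars false
set_option backward.isDefEq.respectTransparency false
set_option backward.isDefEq.respectTransparency.types false

universe u

open CategoryTheory Category Limits Opposite TopologicalSpace
open Groth.Agent.TopPullModel Groth.Agent.TopFinite Groth.Agent.TopCompact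

namespace Groth.Agent.TopQC

variable {X Z : TopCat.{u}} {ι : Z ⟶ X} {P : ObjectProperty (Opens X)ᵒᵖ}
  (h : GenEmb ι {U : Opens X | P (op U)})

include h in
theorem GenEmb.isFiltered : IsFiltered P.FullSubcategory := by
  obtain ⟨U₀, hU₀⟩ := h.nonempty
  haveI : Nonempty P.FullSubcategory := ⟨⟨op U₀, hU₀⟩⟩
  haveI : IsFilteredOrEmpty P.FullSubcategory :=
    { cocone_objs := fun a b => by
        obtain ⟨C, hC, hCab⟩ := h.directed a.obj.unop a.2 b.obj.unop b.2
        exact ⟨⟨op C, hC⟩, ObjectProperty.homMk (homOfLE (hCab.trans inf_le_left)).op,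
          ObjectProperty.homMk (homOfLE (hCab.trans inf_le_right)).op, trivial⟩
      cocone_maps := fun {a b} f g => ⟨b, 𝟙 b, by
        ext
        exact Subsingleton.elim _ _⟩ }
  exact { }

include h in
theorem GenEmb.range_subset (U : P.FullSubcategory) : Set.range ι ⊆ (U.obj.unop : Set X) :=
  fun x hx => (h.range_eq x).1 hx U.obj.unop U.2

/-- The presheaf of a sheaf on the family. -/
noncomputable abbrev genSecs (P : ObjectProperty (Opens X)ᵒᵖ) :
    CohTop.Ab X ⥤ (P.FullSubcategory ⥤ AddCommGrpCat.{u}) :=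
  sheafToPresheaf _ _ ⋙ (Functor.whiskeringLeft _ _ _).obj P.ι

/-- The cocone of restrictions. -/
noncomputable def genCocone (G : CohTop.Ab X) : Cocone ((genSecs P).obj G) where
  pt := AddCommGrpCat.of (secs ι G ⊤)
  ι :=
    { app := fun U => AddCommGrpCat.ofHom (resFib ι G U.obj.unop (h.range_subset U))
      naturality := fun U V i => by
        ext (s : G.obj.obj U.obj)
        exact resFib_res ι G (leOfHom i.hom.unop) (h.range_subset U) (h.range_subset V) s }

set_option maxHeartbeats 800000 in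
/-- Restriction of sections to the subspace. -/
noncomputable def colimToGen : genSecs P ⋙ colim ⟶ mfun ι ⋙ top' Z where
  app G := colimit.desc ((genSecs P).obj G) (genCocone h G)
  naturality {G G'} g := by
    refine colimit.hom_ext fun U => ?_
    change colimit.ι ((genSecs P).obj G) U ≫ colimMap ((genSecs P).map g) ≫
        colimit.desc _ (genCocone h G') =
      colimit.ι ((genSecs P).obj G) U ≫ colimit.desc _ (genCocone h G) ≫ (mfun ι ⋙ top' Z).map g
    rw [ι_colimMap_assoc, colimit.ι_desc, colimit.ι_desc_assoc]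
    refine AddCommGrpCat.ext fun (s : G.obj.obj U.obj) => secs_ext fun v x hx => ?_
    exact (stMap_gm g U.obj.unop x (h.range_subset U ⟨v.1, hx⟩) s).symm

theorem GenEmb.bijective_colimToGen [SpectralSpace X] (G : CohTop.Ab X) :
    Function.Bijective ((colimToGen h).app G) := by
  haveI := h.isFiltered
  have hι : ∀ (U : P.FullSubcategory) (s : G.obj.obj U.obj) (v : (⊤ : Opens Z)) (x : X) (hx : ι v.1 = x),
      ((colimToGen h).app G (colimit.ι ((genSecs P).obj G) U s)).1 v ⟨x, hx⟩ =
        gm G U.obj.unop x (h.range_subset U ⟨v.1, hx⟩) s := fun U s v x hx => by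
    have := ConcreteCategory.congr_hom (colimit.ι_desc _ U :
      colimit.ι ((genSecs P).obj G) U ≫ (colimToGen h).app G = _) s
    exact (congrArg (fun t : secs ι G ⊤ => t.1 v ⟨x, hx⟩) this : _)
  refine ⟨(injective_iff_map_eq_zero ((colimToGen h).app G).hom).2 fun a ha => ?_, fun t => ?_⟩
  · obtain ⟨U, s, rfl⟩ := Concrete.colimit_exists_rep _ a
    obtain ⟨W, hW, hWU, -, hWe⟩ := exists_eq_near G (U := U.obj.unop) (V := U.obj.unop) s 0 (Set.range ι) (by
      rintro _ ⟨z, rfl⟩
      refine ⟨h.range_subset U ⟨z, rfl⟩, h.range_subset U ⟨z, rfl⟩, ?_⟩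
      rw [map_zero, ← hι U s ⟨z, trivial⟩ _ rfl]
      exact congrArg (fun t : secs ι G ⊤ => t.1 ⟨z, trivial⟩ ⟨ι z, rfl⟩) ha)
    obtain ⟨M, hM, hMW⟩ := h.exists_le U.obj.unop (h.compact _ U.2) W fun x hx => hW hx.1
    obtain ⟨C, hC, hCMU⟩ := h.directed M hM U.obj.unop U.2
    let i : U ⟶ ⟨op C, hC⟩ := ObjectProperty.homMk (homOfLE (hCMU.trans inf_le_right)).op
    have e : ((genSecs P).obj G).map i s = 0 := by
      refine gm_ext G C _ _ fun x hx => ?_
      change gm G C x hx (G.obj.map (homOfLE (hCMU.trans inf_le_right)).op s) = _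
      have hxW : x ∈ W := hMW (hCMU hx)
      rw [gm_res, hWe x (hWU hxW) (hWU hxW) hxW, map_zero, map_zero]
    rw [← colimit.w ((genSecs P).obj G) i]
    exact (congrArg (colimit.ι ((genSecs P).obj G) ⟨op C, hC⟩) e).trans (map_zero _)
  · obtain ⟨M, hM, s, hs⟩ := h.exists_section_near G ⊤ (by simpa using isCompact_univ) t
    refine ⟨colimit.ι ((genSecs P).obj G) ⟨op M, hM⟩ (G.obj.map (homOfLE (le_inf le_rfl le_top : M ≤ M ⊓ ⊤)).op s),
      secs_ext fun z x hx => ?_⟩
    rw [hι]
    subst hx
    rw [gm_res]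
    exact hs z _

include h in
/-- Cohomology of an intersection of quasi-compact opens. -/
theorem GenEmb.nonempty_colim_H [SpectralSpace X] (F : CohTop.Ab X) (p : ℕ) :
    Nonempty ((colimit (P.ι ⋙
        (Sheaf.cohomologyPresheafFunctor (Opens.grothendieckTopology X) p).obj F) : AddCommGrpCat.{u}) ≅
      AddCommGrpCat.of (CohTop.H ((CohTop.pull ι).obj F) p)) := by
  haveI := h.isFiltered
  haveI := GrothSS.enoughInjectives_presheaf (C := Opens X)
  haveI : IsIso (colimToGen h) := by
    suffices ∀ G, IsIso ((colimToGen h).app G) from NatIso.isIso_of_isIso_app _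
    intro G
    exact (ConcreteCategory.isIso_iff_bijective _).2 (h.bijective_colimToGen G)
  haveI : PreservesFiniteLimits (colim : (P.FullSubcategory ⥤ AddCommGrpCat.{u}) ⥤ _) :=
    HasExactColimitsOfShape.preservesFiniteLimits
  let T := sheafToPresheaf (Opens.grothendieckTopology X) AddCommGrpCat.{u}
  let R : ((Opens X)ᵒᵖ ⥤ AddCommGrpCat.{u}) ⥤ AddCommGrpCat.{u} :=
    (Functor.whiskeringLeft _ _ _).obj P.ι ⋙ colim
  haveI : ((Functor.whiskeringLeft _ _ AddCommGrpCat.{u}).obj P.ι).Additive := { }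
  haveI : (colim : (P.FullSubcategory ⥤ AddCommGrpCat.{u}) ⥤ _).Additive :=
    ⟨fun {A B f g} => colimit.hom_ext fun k => by simp⟩
  haveI : R.Additive := inferInstance
  haveI : PreservesFiniteLimits R := inferInstance
  haveI : PreservesFiniteColimits R := inferInstance
  obtain ⟨a⟩ := GrothSS.nonempty_rightDerived_comp_exact T R p F
  obtain ⟨b⟩ := GrothSS.nonempty_rightDerived_comp_acyclic (mfun ι) (gam Z) (fun Q hQ r hr => by
    obtain ⟨r, rfl⟩ : ∃ r', r = r' + 1 := ⟨r - 1, by omega⟩
    haveI := hQ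
    haveI : TopCat.Sheaf.IsFlasque Q := S0454.result Q
    exact h.isZero_gamDerived_mfun Q r) p F
  let i2 : (T.rightDerived p).obj F ≅ F.cohomologyPresheaf p :=
    (injectiveResolution F).isoRightDerivedObj T p ≪≫ SiteCoh.homologyIsoCohomology F p
  let e : T ⋙ R ≅ mfun ι ⋙ gam Z :=
    (Functor.associator _ _ _).symm ≪≫ asIso (colimToGen h) ≪≫
      Functor.isoWhiskerLeft (mfun ι) (gamTop Z).symm
  exact ⟨R.mapIso i2.symm ≪≫ a.symm ≪≫ (GrothSS.rightDerivedMapIso e p).app F ≪≫ b ≪≫ gamDerived p _ ≪≫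
    CohTopDesc.hIso ((mfunIso ι).app F) p⟩

end Groth.Agent.TopQC
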