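import Groth.Agent.TopQC.Basic
import Groth.Agent.TopPullModel.LocalHomeo
import Groth.Agent.SpecSpLib.Basic
import Groth.Agent.TopFinite.Disjoint

/-!
Subspaces of spectral spaces which are intersections of quasi-compact opens.
-/

set_option autoImplicit false
set_option linter.style.haveILetI false
set_option linter.unusedSectionVars false
set_option backward.isDefEq.respectTransparency false
set_option backward.isDefEq.respectTransparency.types false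

universe u

open CategoryTheory Category Limits Opposite TopologicalSpace
open scoped Topology
open Groth.Agent.TopPullModel Groth.Agent.TopCompact

namespace Groth.Agent.TopQC

variable {X Z : TopCat.{u}}

/-- An embedding whose image is a directed intersection of quasi-compact opens. -/
structure GenEmb (ι : Z ⟶ X) (𝒰 : Set (Opens X)) : Prop where
  emb : Topology.IsEmbedding ι
  compact : ∀ U ∈ 𝒰, IsCompact (U : Set X)
  nonempty : 𝒰.Nonempty
  directed : ∀ A ∈ 𝒰, ∀ B ∈ 𝒰, ∃ C ∈ 𝒰, C ≤ A ⊓ B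
  range_eq : ∀ x : X, x ∈ Set.range ι ↔ ∀ U ∈ 𝒰, x ∈ U

variable [SpectralSpace X]

theorem isOpen_cons {W : Set X} (hW : IsOpen W) : IsOpen[constructibleTopology X] W := by
  have e : W = ⋃ U : {U : Set X // (IsOpen U ∧ IsCompact U) ∧ U ⊆ W}, U.1 := by
    refine Set.Subset.antisymm (fun x hx => ?_) (Set.iUnion_subset fun U => U.2.2)
    obtain ⟨U, hU, hxU, hUW⟩ := PrespectralSpace.isTopologicalBasis.exists_subset_of_mem_open hx hW
    exact Set.mem_iUnion.2 ⟨⟨U, hU, hUW⟩, hxU⟩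
  rw [e]
  exact @isOpen_iUnion X _ (constructibleTopology X) _ fun U =>
    (SpecSpLib.isClopen_of_isCompact U.2.1.1 U.2.1.2).1

variable {ι : Z ⟶ X} {𝒰 : Set (Opens X)} (h : GenEmb ι 𝒰)

include h in
/-- Opens containing the subspace contain a member of the family, relatively to a quasi-compact open. -/
theorem GenEmb.exists_le (Q : Opens X) (hQ : IsCompact (Q : Set X)) (W : Opens X)
    (hW : Set.range ι ∩ Q ⊆ W) : ∃ M ∈ 𝒰, M ⊓ Q ≤ W := by
  classical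
  by_contra hne
  push Not at hne
  let E : Set X := (Q : Set X) \ W
  have hE : IsOpen[constructibleTopology X] Eᶜ := by
    rw [Set.compl_sdiff]
    exact @IsOpen.union X _ _ (constructibleTopology X) (isOpen_cons W.2) (SpecSpLib.isClopen_of_isCompact Q.2 hQ).2
  obtain ⟨e, ⟨heQ, heW⟩, he⟩ := SpecSpLib.exists_forall_mem (fun M : 𝒰 => (M.1 : Set X)) hE
    (fun M => (SpecSpLib.isClopen_of_isCompact M.1.2 (h.compact _ M.2)).2) fun u => by
      have hM : ∀ u : Finset 𝒰, ∃ C ∈ 𝒰, ∀ M ∈ u, C ≤ M.1 := by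
        intro u
        induction u using Finset.induction with
        | empty =>
          obtain ⟨C, hC⟩ := h.nonempty
          exact ⟨C, hC, by simp⟩
        | insert a s ha ih =>
          obtain ⟨C, hC, hCs⟩ := ih
          obtain ⟨D, hD, hDC⟩ := h.directed a.1 a.2 C hC
          exact ⟨D, hD, fun M hM => (Finset.mem_insert.1 hM).elim (fun e => e ▸ hDC.trans inf_le_left)
            fun hMs => (hDC.trans inf_le_right).trans (hCs M hMs)⟩
      obtain ⟨C, hC, hCu⟩ := hM u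
      obtain ⟨x, hx, hxW⟩ := Set.not_subset.1 (hne C hC)
      exact ⟨x, ⟨hx.2, hxW⟩, Set.mem_iInter₂.2 fun M hM => hCu M hM hx.1⟩
  exact heW (hW ⟨(h.range_eq e).2 fun M hM => Set.mem_iInter.1 he ⟨M, hM⟩, heQ⟩)

include h in
theorem GenEmb.isCompact_range_inter (Q : Opens X) (hQ : IsCompact (Q : Set X)) :
    IsCompact (Set.range ι ∩ Q) := by
  refine SpecSpLib.isCompact_of_isClosed_cons ?_
  have e : (Set.range ι ∩ Q)ᶜ = (Q : Set X)ᶜ ∪ ⋃ M : 𝒰, (M.1 : Set X)ᶜ := by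
    ext x
    simp only [Set.mem_compl_iff, Set.mem_inter_iff, SetLike.mem_coe, Set.mem_union, Set.mem_iUnion, Subtype.exists,
      h.range_eq x]
    grind
  rw [e]
  exact @IsOpen.union X _ _ (constructibleTopology X) (SpecSpLib.isClopen_of_isCompact Q.2 hQ).2
    (@isOpen_iUnion X _ (constructibleTopology X) _ fun M => (SpecSpLib.isClopen_of_isCompact M.1.2 (h.compact _ M.2)).2)

include h in
theorem GenEmb.isCompact_preimage (Q : Opens X) (hQ : IsCompact (Q : Set X)) :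
    IsCompact ((Opens.map ι).obj Q : Set Z) := by
  rw [h.emb.isInducing.isCompact_iff]
  convert h.isCompact_range_inter Q hQ using 1
  exact Set.image_preimage_eq_range_inter

include h in
/-- Sections on the subspace come from neighbourhoods. -/
theorem GenEmb.exists_section_near (F : CohTop.Ab X) (Q : Opens X) (hQ : IsCompact (Q : Set X))
    (t : secs ι F ((Opens.map ι).obj Q)) :
    ∃ M ∈ 𝒰, ∃ s : F.obj.obj (op (M ⊓ Q)), ∀ (z : (Opens.map ι).obj Q) (hz : ι z.1 ∈ M ⊓ Q),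
      gm F (M ⊓ Q) (ι z.1) hz s = t.1 z ⟨ι z.1, rfl⟩ := by
  classical
  have hloc : ∀ z : (Opens.map ι).obj Q, ∃ (O : Opens X) (s : F.obj.obj (op O)),
      IsCompact (O : Set X) ∧ ι z.1 ∈ O ∧ O ≤ Q ∧
        ∀ (w : (Opens.map ι).obj Q) (hw : ι w.1 ∈ O), gm F O (ι w.1) hw s = t.1 w ⟨ι w.1, rfl⟩ := fun z => by
    obtain ⟨O, s, W', hW', hs⟩ := t.2 z
    obtain ⟨N, hN, hNW⟩ := h.emb.isInducing.isOpen_iff.1 W'.2
    have hN' : ∀ v : Z, ι v ∈ N ↔ v ∈ W' := fun v => Set.ext_iff.1 hNW v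
    let O' : Opens X := (O ⊓ ⟨N, hN⟩) ⊓ Q
    obtain ⟨P, hPc, hzP, hPO⟩ := exists_compact_le
      (show ι z.1 ∈ O' from ⟨⟨(hs z hW').1, (hN' z.1).2 hW'⟩, z.2⟩)
    refine ⟨P, F.obj.map (homOfLE (hPO.trans (inf_le_left.trans inf_le_left))).op s, hPc, hzP,
      hPO.trans inf_le_right, fun w hw => ?_⟩
    rw [gm_res]
    exact ((hs w ((hN' w.1).1 (hPO hw).1.2)).2 _ rfl (hPO hw).1.1).symm
  choose O s hOc hzO hOQ hs using hloc
  obtain ⟨T, hT⟩ := (h.isCompact_range_inter Q hQ).elim_finite_subcover (fun z => (O z : Set X)) (fun z => (O z).2)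
    (by
      rintro _ ⟨⟨v, rfl⟩, hv⟩
      exact Set.mem_iUnion.2 ⟨⟨v, hv⟩, hzO ⟨v, hv⟩⟩)
  obtain ⟨M₀, hM₀, hM₀Q⟩ := h.exists_le Q hQ (⨆ z ∈ T, O z) (by
    intro x hx
    obtain ⟨z, hzT, hxz⟩ := Set.mem_iUnion₂.1 (hT hx)
    exact Opens.mem_iSup.2 ⟨z, Opens.mem_iSup.2 ⟨hzT, hxz⟩⟩)
  have hpair : ∀ ab : T × T, ∃ M ∈ 𝒰, ∀ (y : X) (ha : y ∈ O ab.1) (hb : y ∈ O ab.2), y ∈ M →
      gm F (O ab.1) y ha (s ab.1) = gm F (O ab.2) y hb (s ab.2) := fun ab => by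
    obtain ⟨W, hW, -, -, hWe⟩ := exists_eq_near F (s ab.1) (s ab.2) (Set.range ι ∩ (O ab.1 ⊓ O ab.2 : Opens X)) (by
      rintro _ ⟨⟨v, rfl⟩, ha, hb⟩
      exact ⟨ha, hb, (hs ab.1 ⟨v, hOQ _ ha⟩ ha).trans (hs ab.2 ⟨v, hOQ _ ha⟩ hb).symm⟩)
    obtain ⟨M, hM, hMW⟩ := h.exists_le (O ab.1 ⊓ O ab.2)
      (QuasiSeparatedSpace.inter_isCompact _ _ (O ab.1).2 (hOc _) (O ab.2).2 (hOc _)) W hW
    exact ⟨M, hM, fun y ha hb hy => hWe y ha hb (hMW ⟨hy, ha, hb⟩)⟩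
  choose M hM hMe using hpair
  obtain ⟨C, hC, hCle⟩ : ∃ C ∈ 𝒰, C ≤ M₀ ∧ ∀ ab : T × T, C ≤ M ab := by
    have : ∀ u : Finset (T × T), ∃ C ∈ 𝒰, C ≤ M₀ ∧ ∀ ab ∈ u, C ≤ M ab := by
      intro u
      induction u using Finset.induction with
      | empty => exact ⟨M₀, hM₀, le_rfl, by simp⟩
      | insert a s ha ih =>
        obtain ⟨C, hC, hC0, hCs⟩ := ih
        obtain ⟨D, hD, hDC⟩ := h.directed (M a) (hM a) C hC
        exact ⟨D, hD, (hDC.trans inf_le_right).trans hC0, fun b hb => (Finset.mem_insert.1 hb).elim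
          (fun e => e ▸ hDC.trans inf_le_left) fun hbs => (hDC.trans inf_le_right).trans (hCs b hbs)⟩
    obtain ⟨C, hC, h0, h1⟩ := this Finset.univ
    exact ⟨C, hC, h0, fun ab => h1 ab (Finset.mem_univ _)⟩
  have hcov : ∀ y : (C ⊓ Q : Opens X), ∃ a : T, y.1 ∈ O a := fun y => by
    obtain ⟨a, ha⟩ := Opens.mem_iSup.1 (hM₀Q ⟨hCle.1 y.2.1, y.2.2⟩)
    obtain ⟨haT, hy⟩ := Opens.mem_iSup.1 ha
    exact ⟨⟨a, haT⟩, hy⟩
  choose a ha using hcov
  obtain ⟨r, hr, -⟩ := existsUnique_section (G := F) (C ⊓ Q) (fun y => gm F (O (a y)) y.1 (ha y) (s (a y)))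
    fun y => ⟨O (a y), s (a y), ha y, fun w hw => hMe (a y, a w) w.1 hw (ha w) (hCle.2 _ w.2.1)⟩
  exact ⟨C, hC, r, fun z hz => (hr ⟨ι z.1, hz⟩).trans (hs _ z (ha ⟨ι z.1, hz⟩))⟩

include h in
theorem GenEmb.exists_trace (V : Opens Z) (hV : IsCompact (V : Set Z)) :
    ∃ Q : Opens X, IsCompact (Q : Set X) ∧ (Opens.map ι).obj Q = V := by
  classical
  obtain ⟨N, hN, hNV⟩ := h.emb.isInducing.isOpen_iff.1 V.2
  have hN' : ∀ v : Z, ι v ∈ N ↔ v ∈ V := fun v => Set.ext_iff.1 hNV v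
  have hex : ∀ v : V, ∃ P : Opens X, IsCompact (P : Set X) ∧ ι v.1 ∈ P ∧ P ≤ ⟨N, hN⟩ := fun v =>
    exists_compact_le ((hN' v.1).2 v.2)
  choose P hPc hvP hPN using hex
  obtain ⟨T, hT⟩ := hV.elim_finite_subcover (fun v : V => ι ⁻¹' (P v : Set X))
    (fun v => (P v).2.preimage ι.hom.continuous) fun v hv => Set.mem_iUnion.2 ⟨⟨v, hv⟩, hvP ⟨v, hv⟩⟩
  refine ⟨T.sup P, ?_, Opens.ext (Set.ext fun v => ⟨fun hv => ?_, fun hv => ?_⟩)⟩
  · rw [Finset.sup_eq_iSup]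
    simp only [Opens.coe_iSup]
    exact T.finite_toSet.isCompact_biUnion fun v _ => hPc v
  · exact (hN' v).1 ((Finset.sup_le fun a _ => hPN a : T.sup P ≤ ⟨N, hN⟩) hv)
  · obtain ⟨w, hwT, hw⟩ := Set.mem_iUnion₂.1 (hT hv)
    exact (Finset.le_sup (f := P) hwT) hw

include h in
theorem GenEmb.prespectralSpace : PrespectralSpace Z := by
  refine ⟨isTopologicalBasis_of_isOpen_of_nhds (fun U hU => hU.1) fun z U hz hU => ?_⟩
  obtain ⟨N, hN, hNU⟩ := h.emb.isInducing.isOpen_iff.1 hU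
  obtain ⟨P, hPc, hzP, hPN⟩ := exists_compact_le (U := ⟨N, hN⟩) ((Set.ext_iff.1 hNU z).2 hz)
  exact ⟨_, ⟨((Opens.map ι).obj P).2, h.isCompact_preimage P hPc⟩, hzP,
    fun w hw => (Set.ext_iff.1 hNU w).1 (hPN hw)⟩

include h in
theorem GenEmb.quasiSeparatedSpace : QuasiSeparatedSpace Z := by
  refine ⟨fun U V hU hUc hV hVc => ?_⟩
  obtain ⟨P, hPc, hP⟩ := h.exists_trace ⟨U, hU⟩ hUc
  obtain ⟨Q, hQc, hQ⟩ := h.exists_trace ⟨V, hV⟩ hVc
  have e : U ∩ V = ((Opens.map ι).obj (P ⊓ Q) : Set Z) := by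
    rw [show U = ((⟨U, hU⟩ : Opens Z) : Set Z) from rfl, show V = ((⟨V, hV⟩ : Opens Z) : Set Z) from rfl, ← hP, ← hQ]
    rfl
  rw [e]
  exact h.isCompact_preimage _ (QuasiSeparatedSpace.inter_isCompact _ _ P.2 hPc Q.2 hQc)

include h in
/-- Flasque sheaves restrict to qc-flasque sheaves. -/
theorem GenEmb.isQcFlasque_mobj (F : CohTop.Ab X) [TopCat.Sheaf.IsFlasque F] : IsQcFlasque (mobj ι F) := by
  intro U V hU hV hVU t
  obtain ⟨Q, hQc, rfl⟩ := h.exists_trace V hV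
  obtain ⟨M, hM, s, hs⟩ := h.exists_section_near F Q hQc t
  obtain ⟨T, hT⟩ := res_surjective_of_flasque F (le_top : M ⊓ Q ≤ ⊤) s
  refine ⟨(mobj ι F).obj.map (homOfLE (le_top : U ≤ (Opens.map ι).obj ⊤)).op (unitApp ι F ⊤ T),
    secs_ext (g := ι) (F := F) (W := (Opens.map ι).obj Q) fun z x hx => ?_⟩
  subst hx
  have hzM : ι z.1 ∈ M ⊓ Q := ⟨(h.range_eq _).1 ⟨z.1, rfl⟩ M hM, z.2⟩
  change gm F ⊤ (ι z.1) trivial T = t.1 z ⟨ι z.1, rfl⟩
  rw [← hs z hzM, ← hT, gm_res]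

include h in
theorem GenEmb.compactSpace : CompactSpace Z := by
  obtain ⟨M, hM⟩ := h.nonempty
  refine ⟨?_⟩
  have e : (Set.univ : Set Z) = ((Opens.map ι).obj M : Set Z) :=
    Set.ext fun z => ⟨fun _ => (h.range_eq _).1 ⟨z, rfl⟩ M hM, fun _ => trivial⟩
  rw [e]
  exact h.isCompact_preimage M (h.compact M hM)

include h in
/-- Flasque sheaves restrict to acyclic sheaves. -/
theorem GenEmb.isZero_gamDerived_mfun (Q : CohTop.Ab X) [TopCat.Sheaf.IsFlasque Q] (r : ℕ) :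
    IsZero (((gam Z).rightDerived (r + 1)).obj ((mfun ι).obj Q)) := by
  haveI := h.prespectralSpace
  haveI := h.quasiSeparatedSpace
  haveI := h.compactSpace
  have h0 := subsingleton_HU_of_isQcFlasque r (mobj ι Q) (h.isQcFlasque_mobj Q) ⊤ (by
    rw [Opens.coe_top]
    exact isCompact_univ)
  have h1 : Subsingleton (CohTop.H ((mfun ι).obj Q) (r + 1)) :=
    (SiteCoh.huTerminalEquiv _ (T := (⊤ : Opens Z)) isTerminalTop ((mfun ι).obj Q) (r + 1)).toEquiv.subsingleton_congr.2 h0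
  exact (@AddCommGrpCat.isZero_of_subsingleton (AddCommGrpCat.of (CohTop.H ((mfun ι).obj Q) (r + 1))) h1).of_iso
    (gamDerived (r + 1) _)

end Groth.Agent.TopQC
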